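import Mathlib
import Cfsg.Agent.S0618
import Cfsg.Agent.Lib.Helper33.Control

/-!
# Tools for S4411: `q`-elements, the "moved" predicate and characteristic-in subgroups
-/

set_option autoImplicit false
set_option linter.unusedSectionVars false

namespace Cfsg.Agent.Lib.Helper11.AutMove

open Cfsg Subgroup

variable {G : Type*} [Group G]

/-- `y` is a `q`-element -/
def IsQ (q : ℕ) (y : G) : Prop := ∃ k : ℕ, y ^ (q ^ k) = 1

theorem IsQ.map {H : Type*} [Group H] (f : G →* H) {q : ℕ} {y : G} (h : IsQ q y) : IsQ q (f y) := by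
  obtain ⟨k, hk⟩ := h
  exact ⟨k, by rw [← map_pow, hk, map_one]⟩

theorem IsQ.pow {q : ℕ} {y : G} (h : IsQ q y) (m : ℕ) : IsQ q (y ^ m) := by
  obtain ⟨k, hk⟩ := h
  exact ⟨k, by rw [← pow_mul, mul_comm, pow_mul, hk, one_pow]⟩

theorem isQ_coe_iff {q : ℕ} {M : Subgroup G} {y : M} : IsQ q (y : G) ↔ IsQ q y := by
  constructor
  · rintro ⟨k, hk⟩
    exact ⟨k, Subtype.ext (by simpa using hk)⟩
  · rintro ⟨k, hk⟩
    exact ⟨k, by rw [← Subgroup.coe_pow, hk, Subgroup.coe_one]⟩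

/-- the `q`-part of an element is a power with exponent prime to `q` -/
theorem exists_qpart [Finite G] (q : ℕ) [hq : Fact q.Prime] (y : G) :
    ∃ m : ℕ, ¬ q ∣ m ∧ IsQ q (y ^ m) := by
  have h0 : orderOf y ≠ 0 := (orderOf_pos y).ne'
  obtain ⟨e, m, hm, he⟩ := Nat.exists_eq_pow_mul_and_not_dvd h0 q hq.out.ne_one
  refine ⟨m, hm, e, ?_⟩
  rw [← pow_mul, mul_comm, ← he, pow_orderOf_eq_one]

theorem exists_pow_pow_eq {q : ℕ} [hq : Fact q.Prime] {z : G} (hz : IsQ q z) {m : ℕ}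
    (hm : ¬ q ∣ m) : ∃ m' : ℕ, (z ^ m) ^ m' = z := by
  obtain ⟨k, hk⟩ := hz
  apply exists_pow_eq_self_of_coprime
  have h1 : orderOf z ∣ q ^ k := orderOf_dvd_of_pow_eq_one hk
  have h2 : Nat.Coprime m (q ^ k) :=
    Nat.Coprime.pow_right k ((Nat.Prime.coprime_iff_not_dvd hq.out).2 hm).symm
  exact Nat.Coprime.coprime_dvd_right h1 h2

/-- taking the `q`-part does not push a `q`-element into a subgroup -/
theorem pow_not_mem_of_isQ {q : ℕ} [Fact q.Prime] {z : G} (hz : IsQ q z) {S : Subgroup G}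
    (hzS : z ∉ S) {m : ℕ} (hm : ¬ q ∣ m) : z ^ m ∉ S := by
  intro h
  obtain ⟨m', hm'⟩ := exists_pow_pow_eq hz hm
  apply hzS
  rw [← hm']
  exact S.pow_mem h m'

/-- a nontrivial `q`-element forces `q ∣ |G|` -/
theorem dvd_card_of_isQ [Finite G] {q : ℕ} [hq : Fact q.Prime] {z : G} (hz : IsQ q z) (h1 : z ≠ 1) :
    q ∣ Nat.card G := by
  obtain ⟨k, hk⟩ := hz
  have h2 : orderOf z ∣ q ^ k := orderOf_dvd_of_pow_eq_one hk
  obtain ⟨j, -, hj⟩ := (Nat.dvd_prime_pow hq.out).1 h2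
  have hj0 : j ≠ 0 := by
    rintro rfl
    rw [pow_zero, orderOf_eq_one_iff] at hj
    exact h1 hj
  have h3 : q ∣ orderOf z := by
    rw [hj]
    exact dvd_pow_self q hj0
  exact h3.trans (orderOf_dvd_natCard z)

/-- `K` is moved by a `q`-element of its normalizer -/
def Mv (q : ℕ) (K : Subgroup G) : Prop :=
  ∃ y ∈ normalizer (K : Set G), y ∉ centralizer (K : Set G) ∧ IsQ q y

theorem mv_of_dvd_index [Finite G] {q : ℕ} [hq : Fact q.Prime] {K : Subgroup G}
    (h : q ∣ ((centralizer (K : Set G)).subgroupOf (normalizer (K : Set G))).index) : Mv q K := by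
  rw [Subgroup.index_eq_card] at h
  obtain ⟨a, ha⟩ := exists_prime_orderOf_dvd_card' q h
  obtain ⟨y, rfl⟩ := QuotientGroup.mk_surjective a
  obtain ⟨m, hm, hq'⟩ := exists_qpart q y
  refine ⟨((y ^ m : ↥(normalizer (K : Set G))) : G), (y ^ m).2, ?_, isQ_coe_iff.2 hq'⟩
  intro hc
  have h1 : ((y ^ m : ↥(normalizer (K : Set G))) : _ ⧸ (centralizer (K : Set G)).subgroupOf
      (normalizer (K : Set G))) = 1 := by
    rw [QuotientGroup.eq_one_iff, mem_subgroupOf]
    exact hc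
  rw [QuotientGroup.mk_pow] at h1
  have h2 := orderOf_dvd_of_pow_eq_one h1
  rw [ha] at h2
  exact hm h2

theorem dvd_index_of_mv [Finite G] {q : ℕ} [hq : Fact q.Prime] {K : Subgroup G} (h : Mv q K) :
    q ∣ ((centralizer (K : Set G)).subgroupOf (normalizer (K : Set G))).index := by
  obtain ⟨y, hyN, hyC, hyq⟩ := h
  rw [Subgroup.index_eq_card]
  have h0 : IsQ q (⟨y, hyN⟩ : ↥(normalizer (K : Set G))) := by
    rw [← isQ_coe_iff]
    exact hyq
  have h1 : IsQ q (QuotientGroup.mk' ((centralizer (K : Set G)).subgroupOf (normalizer (K : Set G)))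
      ⟨y, hyN⟩) := h0.map _
  apply dvd_card_of_isQ h1
  intro h2
  rw [QuotientGroup.mk'_apply, QuotientGroup.eq_one_iff, mem_subgroupOf] at h2
  exact hyC h2

/-- `K` is invariant under all injective endomorphisms of `T` -/
def CharIn (K T : Subgroup G) : Prop :=
  K ≤ T ∧ ∀ f : ↥T →* G, Function.Injective f → (∀ t, f t ∈ T) → ∀ t : ↥T, (t : G) ∈ K → f t ∈ K

theorem surj_of_inj [Finite G] {T : Subgroup G} {f : ↥T →* G} (hf : Function.Injective f)
    (hT : ∀ t, f t ∈ T) {s : G} (hs : s ∈ T) : ∃ t : ↥T, f t = s := by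
  have h1 : Function.Injective (f.codRestrict T hT) := by
    intro a b hab
    apply hf
    exact congrArg Subtype.val hab
  obtain ⟨t, ht⟩ := (Finite.injective_iff_surjective.1 h1) ⟨s, hs⟩
  exact ⟨t, congrArg Subtype.val ht⟩

theorem CharIn.mem_iff [Finite G] {K T : Subgroup G} (h : CharIn K T) {f : ↥T →* G}
    (hf : Function.Injective f) (hT : ∀ t, f t ∈ T) (t : ↥T) : f t ∈ K ↔ (t : G) ∈ K := by
  refine ⟨fun hft => ?_, h.2 f hf hT t⟩
  let φ : ↥K → ↥K := fun k => ⟨f ⟨k, h.1 k.2⟩, h.2 f hf hT ⟨k, h.1 k.2⟩ k.2⟩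
  have hφ : Function.Injective φ := by
    intro a b hab
    have h1 : f ⟨a, h.1 a.2⟩ = f ⟨b, h.1 b.2⟩ := congrArg Subtype.val hab
    have h2 := hf h1
    exact Subtype.ext (Subtype.mk.inj h2)
  obtain ⟨k, hk⟩ := (Finite.injective_iff_surjective.1 hφ) ⟨f t, hft⟩
  have h1 : f ⟨k, h.1 k.2⟩ = f t := congrArg Subtype.val hk
  have h2 := hf h1
  rw [← h2]
  exact k.2

theorem CharIn.normalizer_le [Finite G] {K T : Subgroup G} (h : CharIn K T) :
    normalizer (T : Set G) ≤ normalizer (K : Set G) := by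
  intro g hg
  have hval : ∀ t : ↥T, ((MulAut.conj g).toMonoidHom.comp T.subtype) t ∈ T := by
    intro t
    exact (mem_normalizer_iff.1 hg (t : G)).1 t.2
  have hinj : Function.Injective ((MulAut.conj g).toMonoidHom.comp T.subtype) := by
    intro a b hab
    apply Subtype.ext
    exact (MulAut.conj g).injective hab
  rw [mem_normalizer_iff]
  intro x
  constructor
  · intro hx
    exact h.2 _ hinj hval ⟨x, h.1 hx⟩ hx
  · intro hx
    have hxT : x ∈ T := by
      have := (mem_normalizer_iff.1 hg x).2 (h.1 hx)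
      exact this
    exact (h.mem_iff hinj hval ⟨x, hxT⟩).1 hx

theorem CharIn.map {Y : Type*} [Group Y] {ι : Y →* G} (hι : Function.Injective ι)
    {K T : Subgroup Y} (h : CharIn K T) [Finite G] : CharIn (K.map ι) (T.map ι) := by
  refine ⟨Subgroup.map_mono h.1, ?_⟩
  intro f hf hT t ht
  obtain ⟨k, hk, hkt⟩ := ht
  let e : ↥T ≃* ↥(T.map ι) := T.equivMapOfInjective ι hι
  let g : ↥T →* Y :=
    T.subtype.comp (e.symm.toMonoidHom.comp ((f.codRestrict (T.map ι) hT).comp e.toMonoidHom))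
  have hg : ∀ s : ↥T, ι (g s) = f (e s) := by
    intro s
    have h1 : (e (e.symm ⟨f (e s), hT (e s)⟩) : G) = ι ((e.symm ⟨f (e s), hT (e s)⟩ : ↥T) : Y) :=
      Subgroup.coe_equivMapOfInjective_apply T ι hι _
    rw [MulEquiv.apply_symm_apply] at h1
    exact h1.symm
  have hginj : Function.Injective g := by
    intro a b hab
    have h1 : f (e a) = f (e b) := by rw [← hg, ← hg, hab]
    exact e.injective (hf h1)
  have hgT : ∀ s, g s ∈ T := fun s => (e.symm _).2
  have h2 := h.2 g hginj hgT ⟨k, h.1 hk⟩ hk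
  have h3 : e ⟨k, h.1 hk⟩ = t := by
    apply Subtype.ext
    rw [Subgroup.coe_equivMapOfInjective_apply]
    exact hkt
  refine ⟨g ⟨k, h.1 hk⟩, h2, ?_⟩
  rw [hg, h3]

theorem CharIn.comap [Finite G] {B : Type*} [Group B] (π : G →* B) {T : Subgroup G}
    (hZ : CharIn (T ⊓ π.ker) T) {K : Subgroup B} (hK : CharIn K (T.map π)) :
    CharIn (K.comap π ⊓ T) T := by
  refine ⟨inf_le_right, ?_⟩
  intro f hf hT t ht
  have hker : (π.subgroupMap T).ker ≤ (π.comp f).ker := by
    intro s hs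
    rw [MonoidHom.mem_ker] at hs ⊢
    have h1 : π (s : G) = 1 := by
      have := congrArg Subtype.val hs
      simpa using this
    have h2 : (s : G) ∈ T ⊓ π.ker := ⟨s.2, h1⟩
    have h3 := hZ.2 f hf hT s h2
    exact h3.2
  let fbar : ↥(T.map π) →* B :=
    (π.subgroupMap T).liftOfSurjective (π.subgroupMap_surjective T) ⟨π.comp f, hker⟩
  have hfbar : ∀ s : ↥T, fbar (π.subgroupMap T s) = π (f s) := by
    intro s
    exact MonoidHom.liftOfRightInverse_comp_apply _ _ _ ⟨π.comp f, hker⟩ s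
  have hinj : Function.Injective fbar := by
    rw [injective_iff_map_eq_one]
    intro u hu
    obtain ⟨s, rfl⟩ := π.subgroupMap_surjective T u
    rw [hfbar] at hu
    have h1 : f s ∈ T ⊓ π.ker := ⟨hT s, hu⟩
    have h2 := (hZ.mem_iff hf hT s).1 h1
    apply Subtype.ext
    simpa using h2.2
  have hval : ∀ u, fbar u ∈ T.map π := by
    intro u
    obtain ⟨s, rfl⟩ := π.subgroupMap_surjective T u
    rw [hfbar]
    exact Subgroup.mem_map_of_mem π (hT s)
  have h1 := hK.2 fbar hinj hval (π.subgroupMap T t) (by simpa using ht.1)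
  rw [hfbar] at h1
  exact ⟨h1, hT t⟩

end Cfsg.Agent.Lib.Helper11.AutMove
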