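import Cfsg.Agent.Lib.Helper11.AutMove.Basic

/-!
# `J(T)` and `Ω₁(Z(T))` are characteristic-in `T`
-/

set_option autoImplicit false
set_option linter.unusedSectionVars false

namespace Cfsg.Agent.Lib.Helper11.AutMove

open Cfsg Subgroup
open Cfsg.Agent.Lib.Helper10 (maxElemAb_map_equiv omegaOne_le exists_maxElemAb)

variable {G : Type*} [Group G]

theorem charIn_thompson [Finite G] (p : ℕ) (T : Subgroup G) :
    CharIn (thompsonSubgroupOf p T) T := by
  refine ⟨Subgroup.map_subtype_le _, ?_⟩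
  intro f hf hT t ht
  have hinj : Function.Injective (f.codRestrict T hT) := by
    intro a b hab
    exact hf (congrArg Subtype.val hab)
  let φ : ↥T ≃* ↥T := MulEquiv.ofBijective (f.codRestrict T hT)
    ⟨hinj, Finite.injective_iff_surjective.1 hinj⟩
  have h1 : t ∈ thompsonSubgroup p ↥T := by
    obtain ⟨s, hs, hst⟩ := ht
    have : s = t := Subtype.ext hst
    rw [← this]
    exact hs
  have h2 : (thompsonSubgroup p ↥T).map φ.toMonoidHom ≤ thompsonSubgroup p ↥T := by
    rw [Subgroup.map_le_iff_le_comap]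
    unfold thompsonSubgroup
    apply sSup_le
    intro A hA
    rw [← Subgroup.map_le_iff_le_comap]
    exact le_sSup (maxElemAb_map_equiv hA φ)
  have h3 : φ t ∈ thompsonSubgroup p ↥T := h2 ⟨t, h1, rfl⟩
  exact ⟨φ t, h3, rfl⟩

theorem charIn_omegaZ [Finite G] (p : ℕ) (T : Subgroup G) :
    CharIn (omegaOne p (T ⊓ centralizer (T : Set G))) T := by
  have hle : omegaOne p (T ⊓ centralizer (T : Set G)) ≤ T := (omegaOne_le p _).trans inf_le_left
  refine ⟨hle, ?_⟩
  intro f hf hT
  have key : ∀ x, x ∈ Subgroup.closure {x : G | x ∈ T ⊓ centralizer (T : Set G) ∧ x ^ p = 1} →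
      ∀ hx : x ∈ T, f ⟨x, hx⟩ ∈ omegaOne p (T ⊓ centralizer (T : Set G)) := by
    intro x hx'
    induction hx' using Subgroup.closure_induction with
    | mem x hx =>
      intro hxT
      apply Subgroup.subset_closure
      refine ⟨Subgroup.mem_inf.2 ⟨hT _, ?_⟩, ?_⟩
      · rw [mem_centralizer_iff]
        intro s hs
        obtain ⟨t', ht'⟩ := surj_of_inj hf hT hs
        rw [← ht', ← map_mul, ← map_mul]
        congr 1
        apply Subtype.ext
        exact (mem_centralizer_iff.1 (Subgroup.mem_inf.1 hx.1).2) (t' : G) t'.2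
      · rw [← map_pow]
        have : (⟨x, hxT⟩ : ↥T) ^ p = 1 := Subtype.ext (by simpa using hx.2)
        rw [this, map_one]
    | one =>
      intro h1
      have : (⟨1, h1⟩ : ↥T) = 1 := rfl
      rw [this, map_one]
      exact one_mem _
    | mul x y hx hy ihx ihy =>
      intro hxy
      have hxT : x ∈ T := hle hx
      have hyT : y ∈ T := hle hy
      have : (⟨x * y, hxy⟩ : ↥T) = ⟨x, hxT⟩ * ⟨y, hyT⟩ := rfl
      rw [this, map_mul]
      exact mul_mem (ihx hxT) (ihy hyT)
    | inv x hx ihx =>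
      intro hxi
      have hxT : x ∈ T := hle hx
      have : (⟨x⁻¹, hxi⟩ : ↥T) = (⟨x, hxT⟩ : ↥T)⁻¹ := rfl
      rw [this, map_inv]
      exact inv_mem (ihx hxT)
  intro t ht
  exact key t ht t.2

/-- `Ω₁(Z(T)) ≠ 1` for a nontrivial `p`-group `T` -/
theorem omegaZ_ne_bot [Finite G] {p : ℕ} [hp : Fact p.Prime] {T : Subgroup G}
    (hT : IsPGroup p ↥T) (hne : T ≠ ⊥) :
    omegaOne p (T ⊓ centralizer (T : Set G)) ≠ ⊥ := by
  haveI : Nontrivial ↥T := (Subgroup.nontrivial_iff_ne_bot T).mpr hne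
  haveI : Nontrivial ↥(Subgroup.center ↥T) := hT.center_nontrivial
  have hZp : IsPGroup p ↥(Subgroup.center ↥T) := hT.to_subgroup _
  have hdvd : p ∣ Nat.card ↥(Subgroup.center ↥T) := by
    obtain ⟨n, hn0, hn⟩ := hZp.nontrivial_iff_card.mp inferInstance
    rw [hn]
    exact dvd_pow_self _ hn0.ne'
  obtain ⟨x, hx⟩ := exists_prime_orderOf_dvd_card' p hdvd
  intro hbot
  have hxmem : ((x : ↥T) : G) ∈ omegaOne p (T ⊓ centralizer (T : Set G)) := by
    apply Subgroup.subset_closure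
    refine ⟨Subgroup.mem_inf.2 ⟨(x : ↥T).2, ?_⟩, ?_⟩
    · rw [mem_centralizer_iff]
      intro s hs
      have h1 := (Subgroup.mem_center_iff.1 x.2) ⟨s, hs⟩
      exact congrArg Subtype.val h1
    · have h1 : x ^ p = 1 := by rw [← hx]; exact pow_orderOf_eq_one x
      have := congrArg (fun z : ↥(Subgroup.center ↥T) => ((z : ↥T) : G)) h1
      simpa using this
  rw [hbot, Subgroup.mem_bot] at hxmem
  have hx1 : x = 1 := Subtype.ext (Subtype.ext hxmem)
  rw [hx1, orderOf_one] at hx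
  exact hp.out.one_lt.ne hx

/-- `J(T) ≠ 1` for a nontrivial `p`-group `T` -/
theorem thompson_ne_bot [Finite G] {p : ℕ} [hp : Fact p.Prime] {T : Subgroup G}
    (hT : IsPGroup p ↥T) (hne : T ≠ ⊥) : thompsonSubgroupOf p T ≠ ⊥ := by
  haveI : Nontrivial ↥T := (Subgroup.nontrivial_iff_ne_bot T).mpr hne
  have hdvd : p ∣ Nat.card ↥T := by
    obtain ⟨n, hn0, hn⟩ := hT.nontrivial_iff_card.mp inferInstance
    rw [hn]
    exact dvd_pow_self _ hn0.ne'
  obtain ⟨x, hx⟩ := exists_prime_orderOf_dvd_card' p hdvd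
  obtain ⟨A, hA⟩ := exists_maxElemAb (G := ↥T) p
  intro hbot
  have hJ : thompsonSubgroup p ↥T = ⊥ := by
    unfold thompsonSubgroupOf at hbot
    exact (Subgroup.map_eq_bot_iff_of_injective _ T.subtype_injective).1 hbot
  have hA1 : A = ⊥ := by
    have : A ≤ thompsonSubgroup p ↥T := le_sSup hA
    rw [hJ] at this
    exact le_bot_iff.1 this
  have hB : IsElementaryAbelian p (Subgroup.zpowers x) := by
    refine ⟨inferInstance, ?_⟩
    intro a ha
    obtain ⟨k, rfl⟩ := Subgroup.mem_zpowers_iff.1 ha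
    rw [← zpow_natCast, ← zpow_mul, mul_comm, zpow_mul, zpow_natCast, ← hx, pow_orderOf_eq_one,
      one_zpow]
  have h1 := hA.2 _ hB
  rw [hA1, Subgroup.card_bot, Nat.card_zpowers, hx] at h1
  exact absurd h1 (by have := hp.out.one_lt; omega)

end Cfsg.Agent.Lib.Helper11.AutMove
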