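import Cfsg.Agent.Lib.Helper11.AutMove.Basic

/-!
# Hall `{p, q}`-subgroups of `p`-solvable groups
-/

set_option autoImplicit false
set_option linter.unusedSectionVars false
set_option linter.style.haveILetI false

namespace Cfsg.Agent.Lib.Helper11.AutMove

open Cfsg Subgroup
open Cfsg.Agent.Lib.Helper76 (isPSolvable_quotient isPSolvable_subgroup exists_normal_of_isPSolvable)
open Cfsg.Agent.Lib.Helper55 (card_comap_mk' card_mul_relIndex_eq)
open Cfsg.Agent.Lib.Helper33 (cj cj_mono card_cj index_cj sylow_exists_cj)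

universe u

/-- all prime divisors of `n` are `p` or `q` -/
def PQ (p q n : ℕ) : Prop := ∀ r : ℕ, r.Prime → r ∣ n → r = p ∨ r = q

theorem PQ.mul {p q a b : ℕ} (ha : PQ p q a) (hb : PQ p q b) : PQ p q (a * b) := by
  intro r hr hd
  rcases (Nat.Prime.dvd_mul hr).1 hd with h | h
  · exact ha r hr h
  · exact hb r hr h

theorem PQ.of_dvd {p q a b : ℕ} (hb : PQ p q b) (h : a ∣ b) : PQ p q a :=
  fun r hr hd => hb r hr (hd.trans h)

theorem pq_one (p q : ℕ) : PQ p q 1 := by
  intro r hr hd
  exact absurd (Nat.dvd_one.1 hd) hr.ne_one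

theorem pq_pow_left (p q k : ℕ) [hp : Fact p.Prime] : PQ p q (p ^ k) := by
  intro r hr hd
  exact Or.inl ((Nat.prime_dvd_prime_iff_eq hr hp.out).1 (hr.dvd_of_dvd_pow hd))

theorem pq_pow_right (p q k : ℕ) [hq : Fact q.Prime] : PQ p q (q ^ k) := by
  intro r hr hd
  exact Or.inr ((Nat.prime_dvd_prime_iff_eq hr hq.out).1 (hr.dvd_of_dvd_pow hd))

theorem pq_card_of_isPGroup_left {X : Type*} [Group X] [Finite X] (p q : ℕ) [Fact p.Prime]
    {N : Subgroup X} (h : IsPGroup p N) : PQ p q (Nat.card N) := by
  obtain ⟨k, hk⟩ := IsPGroup.iff_card.1 h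
  rw [hk]
  exact pq_pow_left p q k

theorem pq_card_of_isPGroup_right {X : Type*} [Group X] [Finite X] (p q : ℕ) [Fact q.Prime]
    {N : Subgroup X} (h : IsPGroup q N) : PQ p q (Nat.card N) := by
  obtain ⟨k, hk⟩ := IsPGroup.iff_card.1 h
  rw [hk]
  exact pq_pow_right p q k

theorem coprime_of_pq {p q a b : ℕ} (ha : PQ p q a) (hp : b.Coprime p) (hq : b.Coprime q)
    (hp' : p.Prime) (hq' : q.Prime) : b.Coprime a := by
  apply Nat.coprime_of_dvd
  intro k hk hkb hka
  rcases ha k hk hka with rfl | rfl
  · exact (Nat.Prime.coprime_iff_not_dvd hp').1 hp.symm hkb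
  · exact (Nat.Prime.coprime_iff_not_dvd hq').1 hq.symm hkb

/-- **Hall `{p,q}`-subgroups exist in `p`-solvable groups.** -/
theorem exists_hall_pq_aux (p q : ℕ) [hp : Fact p.Prime] [hq : Fact q.Prime] :
    ∀ n : ℕ, ∀ (X : Type u) [Group X] [Finite X], Nat.card X = n → IsPSolvable p X →
      ∃ H : Subgroup X, PQ p q (Nat.card H) ∧ H.index.Coprime p ∧ H.index.Coprime q := by
  intro n
  induction n using Nat.strong_induction_on with
  | _ n ih =>
  intro X _ _ hn hsol
  rcases subsingleton_or_nontrivial X with hX | hX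
  · refine ⟨⊤, ?_, ?_, ?_⟩
    · rw [Subgroup.card_top, Nat.card_unique]
      exact pq_one p q
    · rw [Subgroup.index_top]; exact Nat.coprime_one_left p
    · rw [Subgroup.index_top]; exact Nat.coprime_one_left q
  -- passing to a proper subgroup `M` with good index
  have hsub : ∀ M : Subgroup X, M ≠ ⊤ → M.index.Coprime p → M.index.Coprime q →
      ∃ H : Subgroup X, PQ p q (Nat.card H) ∧ H.index.Coprime p ∧ H.index.Coprime q := by
    intro M hM hMp hMq
    have hlt : Nat.card M < n := by
      rw [← hn]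
      have h1 := Subgroup.card_mul_index M
      have h2 : M.index ≠ 1 := fun h => hM (Subgroup.index_eq_one.1 h)
      have h3 : M.index ≠ 0 := Subgroup.index_ne_zero_of_finite
      have h4 : 0 < Nat.card M := Nat.card_pos
      nlinarith [Nat.lt_of_le_of_ne (Nat.one_le_iff_ne_zero.2 h3) (Ne.symm h2)]
    obtain ⟨H₁, h1, h2, h3⟩ := ih _ hlt ↥M rfl (isPSolvable_subgroup M hsol)
    refine ⟨H₁.map M.subtype, ?_, ?_, ?_⟩
    · rw [Subgroup.card_subtype]; exact h1
    · rw [Subgroup.index_map_subtype]; exact Nat.Coprime.mul_left h2 hMp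
    · rw [Subgroup.index_map_subtype]; exact Nat.Coprime.mul_left h3 hMq
  -- passing to a quotient by a nontrivial normal `{p,q}`-subgroup
  have hquot : ∀ N : Subgroup X, N.Normal → N ≠ ⊥ → PQ p q (Nat.card N) →
      ∃ H : Subgroup X, PQ p q (Nat.card H) ∧ H.index.Coprime p ∧ H.index.Coprime q := by
    intro N hN hN1 hNpq
    haveI := hN
    have hlt : Nat.card (X ⧸ N) < n := by
      rw [← hn, ← Subgroup.card_mul_index N, ← Subgroup.index_eq_card]
      have h1 : 1 < Nat.card N := by
        rw [Subgroup.one_lt_card_iff_ne_bot]; exact hN1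
      have h3 : 0 < N.index := Nat.pos_of_ne_zero Subgroup.index_ne_zero_of_finite
      nlinarith
    obtain ⟨H₁, h1, h2, h3⟩ := ih _ hlt (X ⧸ N) rfl (isPSolvable_quotient N hsol)
    refine ⟨H₁.comap (QuotientGroup.mk' N), ?_, ?_, ?_⟩
    · rw [card_comap_mk']; exact hNpq.mul h1
    · rw [Subgroup.index_comap_of_surjective _ (QuotientGroup.mk'_surjective N)]; exact h2
    · rw [Subgroup.index_comap_of_surjective _ (QuotientGroup.mk'_surjective N)]; exact h3
  obtain ⟨N, hN, hN1, hNp⟩ := exists_normal_of_isPSolvable hsol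
  haveI := hN
  rcases hNp with hNp | hNp
  · exact hquot N hN hN1 (pq_card_of_isPGroup_left p q hNp)
  -- `N` is a `p'`-group
  have hlt : Nat.card (X ⧸ N) < n := by
    rw [← hn, ← Subgroup.card_mul_index N, ← Subgroup.index_eq_card]
    have h1 : 1 < Nat.card N := by
      rw [Subgroup.one_lt_card_iff_ne_bot]; exact hN1
    have h3 : 0 < N.index := Nat.pos_of_ne_zero Subgroup.index_ne_zero_of_finite
    nlinarith
  obtain ⟨H₁, h1, h2, h3⟩ := ih _ hlt (X ⧸ N) rfl (isPSolvable_quotient N hsol)
  by_cases hH : H₁.comap (QuotientGroup.mk' N) = ⊤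
  swap
  · apply hsub _ hH
    · rw [Subgroup.index_comap_of_surjective _ (QuotientGroup.mk'_surjective N)]; exact h2
    · rw [Subgroup.index_comap_of_surjective _ (QuotientGroup.mk'_surjective N)]; exact h3
  -- `X/N` is a `{p,q}`-group
  have hH1 : H₁ = ⊤ := by
    rw [eq_top_iff]
    intro x _
    obtain ⟨y, rfl⟩ := QuotientGroup.mk'_surjective N x
    have : y ∈ H₁.comap (QuotientGroup.mk' N) := by rw [hH]; trivial
    exact this
  have hidx : PQ p q N.index := by
    rw [Subgroup.index_eq_card, ← Subgroup.card_top (G := X ⧸ N), ← hH1]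
    exact h1
  obtain ⟨Q⟩ : Nonempty (Sylow q ↥N) := inferInstance
  have hfrat := Sylow.normalizer_sup_eq_top Q
  by_cases hQn : normalizer (((Q : Subgroup ↥N).map N.subtype : Subgroup X) : Set X) = ⊤
  · have hQnorm : ((Q : Subgroup ↥N).map N.subtype).Normal := normalizer_eq_top_iff.1 hQn
    by_cases hQ1 : (Q : Subgroup ↥N).map N.subtype = ⊥
    · -- `N` is a `{p,q}'`-group: Schur-Zassenhaus
      have hQ1' : (Q : Subgroup ↥N) = ⊥ :=
        (Subgroup.map_eq_bot_iff_of_injective _ N.subtype_injective).1 hQ1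
      have hNq : (Nat.card N).Coprime q := by
        rw [Nat.coprime_comm, Nat.Prime.coprime_iff_not_dvd hq.out]
        intro hd
        exact Q.ne_bot_of_dvd_card hd hQ1'
      have hcop : (Nat.card N).Coprime N.index := coprime_of_pq hidx hNp hNq hp.out hq.out
      obtain ⟨H, hH⟩ := exists_right_complement'_of_coprime hcop
      have hc1 := hH.card_mul_card
      have hc2 := Subgroup.card_mul_index N
      have hc3 := Subgroup.card_mul_index H
      have hNpos : 0 < Nat.card N := Nat.card_pos
      have hHpos : 0 < Nat.card H := Nat.card_pos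
      have e1 : Nat.card H = N.index := by
        apply Nat.eq_of_mul_eq_mul_left hNpos
        rw [hc1, hc2]
      have e2 : H.index = Nat.card N := by
        apply Nat.eq_of_mul_eq_mul_left hHpos
        rw [hc3, ← hc1, mul_comm]
      refine ⟨H, ?_, ?_, ?_⟩
      · rw [e1]; exact hidx
      · rw [e2]; exact hNp
      · rw [e2]; exact hNq
    · exact hquot _ hQnorm hQ1 (pq_card_of_isPGroup_right p q (Q.2.map N.subtype))
  · -- Frattini: the normalizer of `Q` is a proper subgroup of index prime to `p` and `q`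
    have hM : ∀ (M : Subgroup X), M ⊔ N = ⊤ → M.index = (M ⊓ N).relIndex N := by
      intro M hMN
      have a1 := Subgroup.card_mul_index M
      have a2 := Subgroup.card_mul_index N
      have a3 := card_mul_relIndex_eq (inf_le_left : M ⊓ N ≤ M)
      have a4 := card_mul_relIndex_eq (inf_le_right : M ⊓ N ≤ N)
      have a5 : (M ⊓ N).relIndex M = N.index := by
        rw [Subgroup.inf_relIndex_left, ← Subgroup.relIndex_sup_right, hMN,
          Subgroup.relIndex_top_right]
      rw [a5] at a3
      have hpos : 0 < Nat.card (M ⊓ N : Subgroup X) := Nat.card_pos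
      have hpos2 : 0 < N.index := Nat.pos_of_ne_zero Subgroup.index_ne_zero_of_finite
      have e : Nat.card (M ⊓ N : Subgroup X) * N.index * M.index =
          Nat.card (M ⊓ N : Subgroup X) * N.index * (M ⊓ N).relIndex N := by
        calc Nat.card (M ⊓ N : Subgroup X) * N.index * M.index
            = Nat.card M * M.index := by rw [a3]
          _ = Nat.card X := a1
          _ = Nat.card N * N.index := a2.symm
          _ = Nat.card (M ⊓ N : Subgroup X) * (M ⊓ N).relIndex N * N.index := by rw [a4]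
          _ = _ := by ring
      exact Nat.eq_of_mul_eq_mul_left (Nat.mul_pos hpos hpos2) e
    have hidxM := hM _ hfrat
    have hQle : (Q : Subgroup ↥N).map N.subtype ≤
        normalizer (((Q : Subgroup ↥N).map N.subtype : Subgroup X) : Set X) ⊓ N :=
      le_inf le_normalizer (Subgroup.map_subtype_le _)
    have hd1 := Subgroup.relIndex_dvd_of_le_left N hQle
    have hQidx : ((Q : Subgroup ↥N).map N.subtype).relIndex N = (Q : Subgroup ↥N).index := by
      show (((Q : Subgroup ↥N).map N.subtype).comap N.subtype).index = _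
      rw [Subgroup.comap_map_eq_self_of_injective N.subtype_injective]
    apply hsub _ hQn
    · rw [hidxM]
      have : (normalizer (((Q : Subgroup ↥N).map N.subtype : Subgroup X) : Set X) ⊓ N).relIndex N ∣
          Nat.card N := Subgroup.relIndex_dvd_card _ _
      exact Nat.Coprime.coprime_dvd_left this hNp
    · rw [hidxM]
      apply Nat.Coprime.coprime_dvd_left hd1
      rw [hQidx, Nat.coprime_comm, Nat.Prime.coprime_iff_not_dvd hq.out]
      exact Q.not_dvd_index

theorem exists_hall_pq_ge {X : Type u} [Group X] [Finite X] (p q : ℕ) [hp : Fact p.Prime]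
    [hq : Fact q.Prime] (hsol : IsPSolvable p X) (T : Sylow p X) :
    ∃ H : Subgroup X, (T : Subgroup X) ≤ H ∧ PQ p q (Nat.card H) ∧ H.index.Coprime q := by
  obtain ⟨H, h1, h2, h3⟩ := exists_hall_pq_aux p q _ X rfl hsol
  obtain ⟨S⟩ : Nonempty (Sylow p ↥H) := inferInstance
  have hSp : IsPGroup p ((S : Subgroup ↥H).map H.subtype) := S.2.map H.subtype
  have hSi : ¬ p ∣ ((S : Subgroup ↥H).map H.subtype).index := by
    rw [Subgroup.index_map_subtype]
    intro hd
    rcases (Nat.Prime.dvd_mul hp.out).1 hd with hd | hd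
    · exact S.not_dvd_index hd
    · exact (Nat.Prime.coprime_iff_not_dvd hp.out).1 h2.symm hd
  obtain ⟨g, hg⟩ := sylow_exists_cj (hSp.toSylow hSi) T
  rw [IsPGroup.toSylow_coe] at hg
  refine ⟨cj g H, ?_, ?_, ?_⟩
  · rw [← hg]
    exact cj_mono (Subgroup.map_subtype_le _)
  · rw [card_cj]; exact h1
  · rw [index_cj]; exact h3

end Cfsg.Agent.Lib.Helper11.AutMove
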