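import Cfsg.Agent.Lib.Helper11.AutMove.Reduce

/-!
# S4411: the main theorem
-/

set_option autoImplicit false
set_option linter.unusedSectionVars false
set_option linter.style.haveILetI false

namespace Cfsg.Agent.Lib.Helper11.AutMove

open Cfsg Subgroup
open Cfsg.Agent.Lib.Helper55 (card_sup_dvd_mul card_mul_relIndex_eq pCore_normal' pPrimeCore_normal'
  pPrimeCore_card_coprime pCore_isPGroup)
open Cfsg.Agent.Lib.Helper33 (cj cj_mono normalizer_growth)
open Cfsg.Agent.Lib.Helper32 (exists_normal_pComplement_of_le_center not_dvd_relIndex_inf_normal)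
open Cfsg.Agent.Lib.Helper54 (isPSolvable_ext isPSolvable_of_isPGroup)

universe u

theorem pPrimeCore_le_CN {G : Type*} [Group G] [Finite G] {p : ℕ} [Fact p.Prime] {K : Subgroup G}
    (hKp : IsPGroup p K) : pPrimeCore p ↥(normalizer (K : Set G)) ≤ CN K := by
  intro d hd
  rw [mem_subgroupOf, mem_centralizer_iff]
  intro k hk
  haveI h0 : (KN K).Normal := Subgroup.normal_in_normalizer
  haveI h1 : (pPrimeCore p ↥(normalizer (K : Set G))).Normal := pPrimeCore_normal' p
  have hKNp : IsPGroup p (KN K) := hKp.comap_subtype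
  have hx : (⟨k, le_normalizer hk⟩ : ↥(normalizer (K : Set G))) ∈ KN K := by
    rw [mem_subgroupOf]; exact hk
  have h2 := commute_of_normal_of_coprime hKNp (pPrimeCore_card_coprime p) hx hd
  have h3 := congrArg Subtype.val h2
  simpa using h3.symm

theorem isPSolvable_normalizer {G : Type u} [Group G] [Finite G] {p : ℕ} [hp : Fact p.Prime]
    {K : Subgroup G} (hsolA : IsPSolvable p (↥(normalizer (K : Set G)) ⧸ CN K))
    (S : Sylow p ↥(normalizer (K : Set G)))
    (hSC : (S : Subgroup ↥(normalizer (K : Set G))) ⊓ CN K ≤ KN K) :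
    IsPSolvable p ↥(normalizer (K : Set G)) := by
  apply isPSolvable_ext p (CN K) ?_ hsolA
  have hPp : IsPGroup p (((S : Subgroup ↥(normalizer (K : Set G))) ⊓ CN K).subgroupOf (CN K)) :=
    (S.2.to_le inf_le_left).comap_subtype
  have hPi : ¬ p ∣ (((S : Subgroup ↥(normalizer (K : Set G))) ⊓ CN K).subgroupOf (CN K)).index :=
    not_dvd_relIndex_inf_normal S (CN K)
  have hcen : ((hPp.toSylow hPi : Sylow p ↥(CN K)) : Subgroup ↥(CN K)) ≤ Subgroup.center ↥(CN K) := by
    rw [IsPGroup.toSylow_coe]
    intro z hz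
    rw [mem_subgroupOf] at hz
    have hzK : (((z : ↥(CN K)) : ↥(normalizer (K : Set G))) : G) ∈ K := by
      have := hSC hz
      rwa [mem_subgroupOf] at this
    rw [Subgroup.mem_center_iff]
    intro c
    have hc : (((c : ↥(CN K)) : ↥(normalizer (K : Set G))) : G) ∈ centralizer (K : Set G) := by
      have := c.2
      rwa [mem_subgroupOf] at this
    have h1 := (mem_centralizer_iff.1 hc) _ hzK
    apply Subtype.ext
    apply Subtype.ext
    simp only [Subgroup.coe_mul]
    exact h1.symm
  obtain ⟨K₀, hK₀n, hK₀c, hK₀sup, -⟩ := exists_normal_pComplement_of_le_center _ hcen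
  haveI := hK₀n
  apply Cfsg.Agent.Lib.Helper53.isPSolvable_of_normal_quotient K₀ (Or.inr hK₀c)
  apply isPSolvable_of_isPGroup p
  have h1 := card_sup_dvd_mul ((hPp.toSylow hPi : Sylow p ↥(CN K)) : Subgroup ↥(CN K)) K₀
  rw [sup_comm, hK₀sup, Subgroup.card_top, ← Subgroup.card_mul_index K₀, mul_comm] at h1
  have h2 : K₀.index ∣ Nat.card ((hPp.toSylow hPi : Sylow p ↥(CN K)) : Subgroup ↥(CN K)) :=
    Nat.dvd_of_mul_dvd_mul_right Nat.card_pos h1
  obtain ⟨k, hk⟩ := IsPGroup.iff_card.1 (hPp.toSylow hPi : Sylow p ↥(CN K)).2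
  rw [hk] at h2
  obtain ⟨j, -, hj⟩ := (Nat.dvd_prime_pow hp.out).1 h2
  apply IsPGroup.of_card (n := j)
  rw [← Subgroup.index_eq_card]
  exact hj

theorem exists_normal_in_sylow {G : Type u} [Group G] [Finite G] (p q : ℕ) [hp : Fact p.Prime]
    [hq : Fact q.Prime] (hpq : p ≠ q) (h23 : ¬ ((p = 2 ∧ q = 3) ∨ (p = 3 ∧ q = 2)))
    (hsol : ∀ H : Subgroup G, IsPGroup p H → IsPSolvable p (↥(normalizer (H : Set G)) ⧸ CN H))
    (H₀ : Subgroup G) (hH₀p : IsPGroup p H₀) (hH₀ : Mv q H₀) :
    ∃ K : Subgroup G, Mv q K ∧ ∃ S : Sylow p G, K ≤ S ∧ (S : Subgroup G) ≤ normalizer (K : Set G) := by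
  classical
  obtain ⟨K, ⟨hKp, hKmv⟩, hmax⟩ := Set.exists_max_image {K : Subgroup G | IsPGroup p K ∧ Mv q K}
    (fun K => (Nat.card (normalizer (K : Set G))).factorization p * (Nat.card G + 1) + Nat.card K)
    (Set.toFinite _) ⟨H₀, hH₀p, hH₀⟩
  obtain ⟨S_N⟩ : Nonempty (Sylow p ↥(normalizer (K : Set G))) := inferInstance
  obtain ⟨R, hKR, hRp, hRmv, hTR, hSCR⟩ := exists_R hpq hKp hKmv S_N
  have hmaxR := hmax R ⟨hRp, hRmv⟩
  have hTcard : Nat.card ((S_N : Subgroup ↥(normalizer (K : Set G))).map
      (normalizer (K : Set G)).subtype) =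
      p ^ (Nat.card (normalizer (K : Set G))).factorization p := by
    rw [Subgroup.card_subtype, S_N.card_eq_multiplicity]
  have hcK : Nat.card K ≤ Nat.card G := Subgroup.card_le_card_group K
  have hRK : R = K := by
    have hv : (Nat.card (normalizer (K : Set G))).factorization p ≤
        (Nat.card (normalizer (R : Set G))).factorization p := by
      have h1 : p ^ (Nat.card (normalizer (K : Set G))).factorization p ∣
          Nat.card (normalizer (R : Set G)) := by
        rw [← hTcard]; exact Subgroup.card_dvd_of_le hTR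
      exact (Nat.Prime.pow_dvd_iff_le_factorization hp.out Nat.card_pos.ne').1 h1
    have hcR : Nat.card K ≤ Nat.card R := Subgroup.card_le_of_le hKR
    have hmaxR' : (Nat.card (normalizer (R : Set G))).factorization p * (Nat.card G + 1) +
        Nat.card R ≤ (Nat.card (normalizer (K : Set G))).factorization p * (Nat.card G + 1) +
        Nat.card K := hmaxR
    have hveq : (Nat.card (normalizer (R : Set G))).factorization p =
        (Nat.card (normalizer (K : Set G))).factorization p := by
      by_contra hne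
      have h1 : (Nat.card (normalizer (K : Set G))).factorization p + 1 ≤
          (Nat.card (normalizer (R : Set G))).factorization p := by omega
      have h2 := Nat.mul_le_mul_right (Nat.card G + 1) h1
      nlinarith
    rw [hveq] at hmaxR'
    have h3 : Nat.card R ≤ Nat.card K := by omega
    exact (Subgroup.eq_of_le_of_card_ge hKR h3).symm
  rw [hRK] at hSCR
  have hSC : (S_N : Subgroup ↥(normalizer (K : Set G))) ⊓ CN K ≤ KN K := by
    intro x hx
    rw [mem_subgroupOf]
    exact hSCR ⟨x, hx, rfl⟩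
  have hsolN := isPSolvable_normalizer (hsol K hKp) S_N hSC
  obtain ⟨y, hyN, hyC, hyq⟩ := hKmv
  have hy' : (⟨y, hyN⟩ : ↥(normalizer (K : Set G))) ∉ pPrimeCore p ↥(normalizer (K : Set G)) := by
    intro h
    apply hyC
    have := pPrimeCore_le_CN hKp h
    rwa [mem_subgroupOf] at this
  have hyq' : IsQ q (⟨y, hyN⟩ : ↥(normalizer (K : Set G))) := by
    rw [← isQ_coe_iff]; exact hyq
  obtain ⟨K₂, hK₂char, hK₂mv⟩ := star_star p q hpq h23 hsolN S_N hyq' hy'
  have hK₂char' := hK₂char.map (normalizer (K : Set G)).subtype_injective (G := G)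
  have hK₂mv' := mv_map_subtype hK₂mv
  have hK₂p : IsPGroup p (K₂.map (normalizer (K : Set G)).subtype) :=
    (S_N.2.to_le hK₂char.1).map _
  have hmax2 : (Nat.card (normalizer ((K₂.map (normalizer (K : Set G)).subtype : Subgroup G) :
      Set G))).factorization p * (Nat.card G + 1) +
      Nat.card (K₂.map (normalizer (K : Set G)).subtype) ≤
      (Nat.card (normalizer (K : Set G))).factorization p * (Nat.card G + 1) + Nat.card K :=
    hmax _ ⟨hK₂p, hK₂mv'⟩
  obtain ⟨S, hTS⟩ := (S_N.2.map (normalizer (K : Set G)).subtype).exists_le_sylow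
  by_cases hTeq : (S_N : Subgroup ↥(normalizer (K : Set G))).map
      (normalizer (K : Set G)).subtype = S
  · refine ⟨K, ⟨y, hyN, hyC, hyq⟩, S, ?_, ?_⟩
    · rw [← hTeq]
      exact (Subgroup.map_subgroupOf_eq_of_le (le_normalizer (H := K))).symm.le.trans
        (Subgroup.map_mono (KN_le_sylow hKp S_N))
    · rw [← hTeq]
      exact Subgroup.map_subtype_le _
  · exfalso
    have hlt : (S_N : Subgroup ↥(normalizer (K : Set G))).map
      (normalizer (K : Set G)).subtype < S := lt_of_le_of_ne hTS hTeq
    have hgrow := normalizer_growth S.2 hlt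
    have hT₁ : (S : Subgroup G) ⊓ normalizer (((S_N : Subgroup ↥(normalizer (K : Set G))).map
        (normalizer (K : Set G)).subtype : Subgroup G) : Set G) ≤
        normalizer ((K₂.map (normalizer (K : Set G)).subtype : Subgroup G) : Set G) :=
      inf_le_right.trans hK₂char'.normalizer_le
    obtain ⟨j, hj⟩ := IsPGroup.iff_card.1 (S.2.to_le inf_le_left :
      IsPGroup p ((S : Subgroup G) ⊓ normalizer (((S_N : Subgroup ↥(normalizer (K : Set G))).map
        (normalizer (K : Set G)).subtype : Subgroup G) : Set G) : Subgroup G))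
    have hjlt : (Nat.card (normalizer (K : Set G))).factorization p < j := by
      have h1 := Cfsg.Agent.Lib.Helper11.card_lt_of_lt hgrow
      rw [hTcard, hj] at h1
      exact (Nat.pow_lt_pow_iff_right hp.out.one_lt).1 h1
    have hv2 : j ≤ (Nat.card (normalizer ((K₂.map (normalizer (K : Set G)).subtype : Subgroup G) :
        Set G))).factorization p := by
      have h1 : p ^ j ∣ Nat.card (normalizer ((K₂.map (normalizer (K : Set G)).subtype :
          Subgroup G) : Set G)) := by
        rw [← hj]; exact Subgroup.card_dvd_of_le hT₁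
      exact (Nat.Prime.pow_dvd_iff_le_factorization hp.out Nat.card_pos.ne').1 h1
    have h1 : (Nat.card (normalizer (K : Set G))).factorization p + 1 ≤
        (Nat.card (normalizer ((K₂.map (normalizer (K : Set G)).subtype : Subgroup G) :
        Set G))).factorization p := by omega
    have h2 := Nat.mul_le_mul_right (Nat.card G + 1) h1
    nlinarith

end Cfsg.Agent.Lib.Helper11.AutMove
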