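import Cfsg.Agent.Lib.Helper11.AutMove.StarStar
import Cfsg.Agent.Lib.Helper11.ZJ
import Cfsg.Agent.Lib.Helper54.PSolvExt

/-!
# S4411: reduction to the `p`-solvable lemma
-/

set_option autoImplicit false
set_option linter.unusedSectionVars false
set_option linter.style.haveILetI false

namespace Cfsg.Agent.Lib.Helper11.AutMove

open Cfsg Subgroup
open Cfsg.Agent.Lib.Helper55 (card_sup_dvd_mul card_mul_relIndex_eq pCore_normal' pPrimeCore_normal'
  pPrimeCore_card_coprime pCore_isPGroup le_pCore)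
open Cfsg.Agent.Lib.Helper33 (cj mem_cj mem_cj' conj_mem_cj conj_mem_cj_iff cj_mono card_cj
  normalizer_cj centralizer_cj isPGroup_cj)
open Cfsg.Agent.Lib.Helper32 (exists_normal_pComplement_of_le_center not_dvd_relIndex_inf_normal)

universe u

variable {G : Type*} [Group G]

theorem mv_cj {q : ℕ} {K : Subgroup G} (g : G) (h : Mv q K) : Mv q (cj g K) := by
  obtain ⟨y, hyN, hyC, hyq⟩ := h
  refine ⟨g * y * g⁻¹, ?_, ?_, ?_⟩
  · rw [normalizer_cj]; exact conj_mem_cj hyN
  · rw [centralizer_cj, conj_mem_cj_iff]; exact hyC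
  · have := hyq.map (MulAut.conj g).toMonoidHom
    simpa using this

/-- a normal `p`-subgroup and a normal `p'`-subgroup commute elementwise -/
theorem commute_of_normal_of_coprime [Finite G] {p : ℕ} [Fact p.Prime] {P R : Subgroup G}
    [hPn : P.Normal] [hRn : R.Normal] (hP : IsPGroup p P) (hR : (Nat.card R).Coprime p)
    {x r : G} (hx : x ∈ P) (hr : r ∈ R) : r * x = x * r := by
  have hdis := inf_eq_bot_of_isPGroup_of_coprime hP hR
  have h1 : r * x * r⁻¹ * x⁻¹ ∈ P := mul_mem (hPn.conj_mem x hx r) (inv_mem hx)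
  have h2 : r * x * r⁻¹ * x⁻¹ ∈ R := by
    have : r * x * r⁻¹ * x⁻¹ = r * (x * r⁻¹ * x⁻¹) := by group
    rw [this]
    exact mul_mem hr (hRn.conj_mem _ (inv_mem hr) x)
  have h4 : r * x * r⁻¹ * x⁻¹ ∈ P ⊓ R := ⟨h1, h2⟩
  rw [hdis, mem_bot] at h4
  have := congrArg (fun z => z * x * r) h4
  simpa [mul_assoc] using this

/-- `C_G(K)` inside `N_G(K)` -/
abbrev CN (K : Subgroup G) : Subgroup ↥(normalizer (K : Set G)) :=
  (centralizer (K : Set G)).subgroupOf (normalizer (K : Set G))

/-- `K` inside `N_G(K)` -/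
abbrev KN (K : Subgroup G) : Subgroup ↥(normalizer (K : Set G)) :=
  K.subgroupOf (normalizer (K : Set G))

/-- the preimage in `N_G(K)` of `O_p(N_G(K)/C_G(K))` -/
abbrev ON (p : ℕ) (K : Subgroup G) : Subgroup ↥(normalizer (K : Set G)) :=
  (pCore p (↥(normalizer (K : Set G)) ⧸ CN K)).comap (QuotientGroup.mk' (CN K))

instance ON_normal (p : ℕ) (K : Subgroup G) : (ON p K).Normal :=
  (pCore_normal' p).comap _

theorem CN_le_ON (p : ℕ) (K : Subgroup G) : CN K ≤ ON p K :=
  Cfsg.Agent.Lib.Helper55.le_comap_mk' (CN K) _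

theorem KN_le_sylow [Finite G] {p : ℕ} [Fact p.Prime] {K : Subgroup G} (hKp : IsPGroup p K)
    (S : Sylow p ↥(normalizer (K : Set G))) : KN K ≤ S := by
  haveI : (KN K).Normal := Subgroup.normal_in_normalizer
  exact IsPGroup.le_sylow_of_normal (N := KN K) (hKp.comap_subtype) S

theorem KN_le_ON [Finite G] {p : ℕ} [Fact p.Prime] {K : Subgroup G} (hKp : IsPGroup p K) :
    KN K ≤ ON p K := by
  rw [← Subgroup.map_le_iff_le_comap]
  haveI h0 : (KN K).Normal := Subgroup.normal_in_normalizer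
  haveI : ((KN K).map (QuotientGroup.mk' (CN K))).Normal :=
    Subgroup.Normal.map h0 _ (QuotientGroup.mk'_surjective _)
  have h1 : IsPGroup p (KN K) := hKp.comap_subtype
  exact Cfsg.Agent.Lib.Helper55.le_pCore p _ (h1.map _)

/-- transfer of `Mv` from `N_G(K)` to `G` -/
theorem mv_map_subtype {q : ℕ} {M : Subgroup G} {K' : Subgroup ↥M} (h : Mv q K') :
    Mv q (K'.map M.subtype) := by
  obtain ⟨y, hyN, hyC, hyq⟩ := h
  refine ⟨(y : G), Subgroup.le_normalizer_map M.subtype ⟨y, hyN, rfl⟩, ?_, isQ_coe_iff.2 hyq⟩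
  intro hc
  apply hyC
  rw [mem_centralizer_iff]
  intro k hk
  apply Subtype.ext
  exact (mem_centralizer_iff.1 hc) (k : G) ⟨k, hk, rfl⟩

/-- the `R`-argument -/
theorem exists_R [Finite G] {p q : ℕ} [hp : Fact p.Prime] [hq : Fact q.Prime] (hpq : p ≠ q)
    {K : Subgroup G} (hKp : IsPGroup p K) (hmv : Mv q K)
    (S : Sylow p ↥(normalizer (K : Set G))) :
    ∃ R : Subgroup G, K ≤ R ∧ IsPGroup p R ∧ Mv q R ∧
      (S : Subgroup ↥(normalizer (K : Set G))).map (normalizer (K : Set G)).subtype ≤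
        normalizer (R : Set G) ∧
      ((S : Subgroup ↥(normalizer (K : Set G))) ⊓ CN K).map (normalizer (K : Set G)).subtype ≤ R := by
  have hKR : KN K ≤ (S : Subgroup ↥(normalizer (K : Set G))) ⊓ ON p K :=
    le_inf (KN_le_sylow hKp S) (KN_le_ON hKp)
  have hKmap : (KN K).map (normalizer (K : Set G)).subtype = K :=
    Subgroup.map_subgroupOf_eq_of_le le_normalizer
  refine ⟨((S : Subgroup ↥(normalizer (K : Set G))) ⊓ ON p K).map (normalizer (K : Set G)).subtype,
    ?_, ?_, ?_, ?_, ?_⟩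
  · exact hKmap.symm.le.trans (Subgroup.map_mono hKR)
  · exact (S.2.to_le inf_le_left).map _
  · -- a `q`-element of `N_N(R)` outside `C`
    obtain ⟨y, hyN, hyC, hyq⟩ := hmv
    have hyq' : IsQ q (⟨y, hyN⟩ : ↥(normalizer (K : Set G))) := by
      rw [← isQ_coe_iff]; exact hyq
    have hqA : q ∣ Nat.card (↥(normalizer (K : Set G)) ⧸ CN K) := by
      apply dvd_card_of_isQ (hyq'.map (QuotientGroup.mk' (CN K)))
      rw [QuotientGroup.mk'_apply, Ne, QuotientGroup.eq_one_iff, mem_subgroupOf]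
      exact hyC
    have hfr := Cfsg.Agent.Lib.Helper11.frattini_inf S (ON p K)
    haveI hPn : (pCore p (↥(normalizer (K : Set G)) ⧸ CN K)).Normal := pCore_normal' p
    have hsup : (normalizer (((S : Subgroup ↥(normalizer (K : Set G))) ⊓ ON p K :
        Subgroup ↥(normalizer (K : Set G))) : Set ↥(normalizer (K : Set G)))).map
          (QuotientGroup.mk' (CN K)) ⊔ pCore p (↥(normalizer (K : Set G)) ⧸ CN K) = ⊤ := by
      have h1 := congrArg (Subgroup.map (QuotientGroup.mk' (CN K))) hfr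
      rw [Subgroup.map_sup, Subgroup.map_comap_eq_self_of_surjective
        (QuotientGroup.mk'_surjective _), ← MonoidHom.range_eq_map,
        MonoidHom.range_eq_top.2 (QuotientGroup.mk'_surjective _)] at h1
      exact h1
    have hdvd := card_sup_dvd_mul ((normalizer (((S : Subgroup ↥(normalizer (K : Set G))) ⊓ ON p K :
        Subgroup ↥(normalizer (K : Set G))) : Set ↥(normalizer (K : Set G)))).map
          (QuotientGroup.mk' (CN K))) (pCore p (↥(normalizer (K : Set G)) ⧸ CN K))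
    rw [hsup, Subgroup.card_top] at hdvd
    have hqB : q ∣ Nat.card ((normalizer (((S : Subgroup ↥(normalizer (K : Set G))) ⊓ ON p K :
        Subgroup ↥(normalizer (K : Set G))) : Set ↥(normalizer (K : Set G)))).map
          (QuotientGroup.mk' (CN K))) := by
      have h1 := hqA.trans hdvd
      obtain ⟨k, hk⟩ := IsPGroup.iff_card.1
        (pCore_isPGroup p (G := ↥(normalizer (K : Set G)) ⧸ CN K))
      rw [hk] at h1
      apply Nat.Coprime.dvd_of_dvd_mul_right _ h1
      apply Nat.Coprime.pow_right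
      exact (Nat.coprime_primes hq.out hp.out).2 (Ne.symm hpq)
    obtain ⟨b, hb⟩ := exists_prime_orderOf_dvd_card' q hqB
    obtain ⟨z₀, hz₀N, hz₀⟩ := b.2
    obtain ⟨m, hm, hmq⟩ := exists_qpart q z₀
    have hzC : z₀ ^ m ∉ CN K := by
      intro hc
      have h1 : QuotientGroup.mk' (CN K) (z₀ ^ m) = 1 := by
        rw [QuotientGroup.mk'_apply, QuotientGroup.eq_one_iff]; exact hc
      rw [map_pow, hz₀] at h1
      have h2 : b ^ m = 1 := Subtype.ext (by rw [Subgroup.coe_pow, h1, Subgroup.coe_one])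
      have h3 := orderOf_dvd_of_pow_eq_one h2
      rw [hb] at h3
      exact hm h3
    have hzN : z₀ ^ m ∈ normalizer (((S : Subgroup ↥(normalizer (K : Set G))) ⊓ ON p K :
        Subgroup ↥(normalizer (K : Set G))) : Set ↥(normalizer (K : Set G))) := pow_mem hz₀N m
    refine ⟨((z₀ ^ m : ↥(normalizer (K : Set G))) : G),
      Subgroup.le_normalizer_map _ ⟨_, hzN, rfl⟩, ?_, isQ_coe_iff.2 hmq⟩
    intro hc
    apply hzC
    rw [mem_subgroupOf, mem_centralizer_iff]
    intro k hk
    apply (mem_centralizer_iff.1 hc) k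
    have : (⟨k, le_normalizer hk⟩ : ↥(normalizer (K : Set G))) ∈
        (S : Subgroup ↥(normalizer (K : Set G))) ⊓ ON p K := hKR (by rw [mem_subgroupOf]; exact hk)
    exact ⟨_, this, rfl⟩
  · have h1 := Cfsg.Agent.Lib.Helper11.sylow_le_normalizer_inf_normal S (ON p K)
    exact (Subgroup.map_mono h1).trans (Subgroup.le_normalizer_map _)
  · exact Subgroup.map_mono (inf_le_inf_left _ (CN_le_ON p K))

end Cfsg.Agent.Lib.Helper11.AutMove
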