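import Cfsg.Agent.Lib.Helper11.AutMove.CharSub
import Cfsg.Agent.Lib.Helper11.AutMove.HallPQ
import Cfsg.Agent.Lib.Helper48.PCore

/-!
# The `p`-solvable lemma for S4411

In a `p`-solvable group `X` with `O_{p'}(X) = 1` and `q ∣ |X|` (`{p,q} ≠ {2,3}`), some characteristic
subgroup of a Sylow `p`-subgroup is moved by a `q`-element of its normalizer.
-/

set_option autoImplicit false
set_option linter.unusedSectionVars false
set_option linter.style.haveILetI false

namespace Cfsg.Agent.Lib.Helper11.AutMove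

open Cfsg Subgroup
open Cfsg.Agent.Lib.Helper76 (isPSolvable_quotient isPSolvable_subgroup
  centralizer_pCore_le_of_isPSolvable relIndex_dvd_of_le_right_of_normal)
open Cfsg.Agent.Lib.Helper55 (card_comap_mk' card_mul_relIndex_eq pCore_normal' pPrimeCore_normal'
  le_pPrimeCore pPrimeCore_card_coprime pCore_isPGroup)
open Cfsg.Agent.Lib.Helper32 (exists_normal_pComplement_of_le_center)
open Cfsg.Agent.Lib.Helper10 (omegaOne_le omegaZ_le_centralizer)

universe u

theorem three_dvd_card_SL2_two : 3 ∣ Nat.card (Matrix.SpecialLinearGroup (Fin 2) (ZMod 2)) := by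
  let x : Matrix.SpecialLinearGroup (Fin 2) (ZMod 2) := ⟨!![0, 1; 1, 1], by decide⟩
  have h3 : x ^ 3 = 1 := by decide
  have h1 : x ≠ 1 := by
    intro h
    have h2 := congrArg (fun m : Matrix.SpecialLinearGroup (Fin 2) (ZMod 2) => m.1 0 0) h
    revert h2
    decide
  have ho : orderOf x = 3 := orderOf_eq_prime h3 h1
  have := orderOf_dvd_natCard x
  rwa [ho] at this

theorem two_dvd_card_SL2_three : 2 ∣ Nat.card (Matrix.SpecialLinearGroup (Fin 2) (ZMod 3)) := by
  let x : Matrix.SpecialLinearGroup (Fin 2) (ZMod 3) := ⟨!![2, 0; 0, 2], by decide⟩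
  have h3 : x ^ 2 = 1 := by decide
  have h1 : x ≠ 1 := by
    intro h
    have h2 := congrArg (fun m : Matrix.SpecialLinearGroup (Fin 2) (ZMod 3) => m.1 0 0) h
    revert h2
    decide
  have ho : orderOf x = 2 := orderOf_eq_prime h3 h1
  have := orderOf_dvd_natCard x
  rwa [ho] at this

variable {X : Type*} [Group X]

theorem inf_eq_bot_of_isPGroup_of_coprime [Finite X] {p : ℕ} [hp : Fact p.Prime] {P R : Subgroup X}
    (hP : IsPGroup p P) (hR : (Nat.card R).Coprime p) : P ⊓ R = ⊥ := by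
  have h1 : IsPGroup p (P ⊓ R : Subgroup X) := hP.to_le inf_le_left
  obtain ⟨k, hk⟩ := IsPGroup.iff_card.1 h1
  have h2 : Nat.card (P ⊓ R : Subgroup X) ∣ Nat.card R := Subgroup.card_dvd_of_le inf_le_right
  have h3 : (Nat.card (P ⊓ R : Subgroup X)).Coprime p := Nat.Coprime.coprime_dvd_left h2 hR
  rw [hk] at h3
  have hk0 : k = 0 := by
    by_contra hne
    have : p ∣ p ^ k := dvd_pow_self p hne
    have h4 := Nat.Coprime.eq_one_of_dvd h3.symm this
    exact hp.out.one_lt.ne' h4
  rw [hk0, pow_zero] at hk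
  exact Subgroup.card_eq_one.1 hk

/-- a subgroup containing a Sylow `p`-subgroup of a `p`-solvable group with trivial `p'`-core
has trivial `p'`-core -/
theorem pPrimeCore_subgroup_eq_bot [Finite X] {p : ℕ} [hp : Fact p.Prime] (hsol : IsPSolvable p X)
    (hO : pPrimeCore p X = ⊥) (T : Sylow p X) {M : Subgroup X} (hTM : (T : Subgroup X) ≤ M) :
    pPrimeCore p ↥M = ⊥ := by
  haveI hPn : (pCore p X).Normal := pCore_normal' p
  haveI hRn : (pPrimeCore p ↥M).Normal := pPrimeCore_normal' p
  have hPT : pCore p X ≤ T := Cfsg.Agent.Lib.Helper48.pCore_le_sylow T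
  have hPp : IsPGroup p (pCore p X) := pCore_isPGroup p
  have hRc : (Nat.card ((pPrimeCore p ↥M).map M.subtype)).Coprime p := by
    rw [Subgroup.card_subtype]
    exact pPrimeCore_card_coprime p
  have hdis := inf_eq_bot_of_isPGroup_of_coprime hPp hRc
  have hcen : (pPrimeCore p ↥M).map M.subtype ≤ centralizer (pCore p X : Set X) := by
    rintro _ ⟨r, hr, rfl⟩
    rw [mem_centralizer_iff]
    intro x hx
    have hxM : x ∈ M := hTM (hPT hx)
    have h1 : (r : X) * x * (r : X)⁻¹ * x⁻¹ ∈ pCore p X :=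
      mul_mem (hPn.conj_mem x hx r) (inv_mem hx)
    have h2 : (r : X) * x * (r : X)⁻¹ * x⁻¹ ∈ (pPrimeCore p ↥M).map M.subtype := by
      have h3 : r * (⟨x, hxM⟩ * r⁻¹ * (⟨x, hxM⟩ : ↥M)⁻¹) ∈ pPrimeCore p ↥M :=
        mul_mem hr (hRn.conj_mem _ (inv_mem hr) _)
      refine ⟨_, h3, ?_⟩
      simp [mul_assoc]
    have h4 : (r : X) * x * (r : X)⁻¹ * x⁻¹ ∈ pCore p X ⊓ (pPrimeCore p ↥M).map M.subtype := ⟨h1, h2⟩
    rw [hdis, mem_bot] at h4
    have h5 : (r : X) * x = x * r := by
      have := congrArg (fun z => z * x * (r : X)) h4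
      simpa [mul_assoc] using this
    exact h5.symm
  have h6 := hcen.trans (centralizer_pCore_le_of_isPSolvable hsol hO)
  have h7 : (pPrimeCore p ↥M).map M.subtype ≤ ⊥ := by
    rw [← hdis]
    exact le_inf h6 le_rfl
  exact (Subgroup.map_eq_bot_iff_of_injective _ M.subtype_injective).1 (le_bot_iff.1 h7)

/-- a normal subgroup with a central Sylow `p`-subgroup in a group with trivial `p'`-core is a `p`-group -/
theorem le_of_central_sylow [Finite X] {p : ℕ} [hp : Fact p.Prime] (hO : pPrimeCore p X = ⊥)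
    {D Z : Subgroup X} [hDn : D.Normal] (hZD : Z ≤ D) (hZp : IsPGroup p Z)
    (hidx : (Z.relIndex D).Coprime p) (hcen : ∀ z ∈ Z, ∀ d ∈ D, d * z = z * d) : D ≤ Z := by
  have hZs : IsPGroup p (Z.subgroupOf D) := hZp.comap_of_injective D.subtype D.subtype_injective
  have hidx' : ¬ p ∣ (Z.subgroupOf D).index := by
    have : (Z.subgroupOf D).index = Z.relIndex D := rfl
    rw [this]
    exact (Nat.Prime.coprime_iff_not_dvd hp.out).mp hidx.symm
  let S : Sylow p D := hZs.toSylow hidx'
  have hScoe : (S : Subgroup D) = Z.subgroupOf D := IsPGroup.toSylow_coe hZs hidx'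
  have hcen' : (S : Subgroup D) ≤ Subgroup.center D := by
    rw [hScoe]
    intro z hz
    rw [Subgroup.mem_subgroupOf] at hz
    rw [Subgroup.mem_center_iff]
    intro d
    apply Subtype.ext
    simp only [Subgroup.coe_mul]
    exact hcen _ hz _ d.2
  obtain ⟨K, hKn, hKcop, hKsup, hKmem⟩ := exists_normal_pComplement_of_le_center S hcen'
  have hK'n : (K.map D.subtype).Normal := by
    constructor
    rintro _ ⟨k, hk, rfl⟩ g
    have hmem : g * (k : X) * g⁻¹ ∈ D := hDn.conj_mem _ k.2 g
    refine ⟨⟨g * (k : X) * g⁻¹, hmem⟩, ?_, rfl⟩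
    rw [SetLike.mem_coe] at hk
    rw [SetLike.mem_coe, hKmem] at *
    have e1 : orderOf (⟨g * (k : X) * g⁻¹, hmem⟩ : D) = orderOf (g * (k : X) * g⁻¹) :=
      Subgroup.orderOf_mk _ _
    have e2 : orderOf (g * (k : X) * g⁻¹) = orderOf (k : X) := by
      have := orderOf_injective (MulAut.conj g).toMonoidHom (MulAut.conj g).injective (k : X)
      simpa using this
    have e3 : orderOf (k : X) = orderOf k := Subgroup.orderOf_coe k
    rw [e1, e2, e3]
    exact hk
  have hK'card : (Nat.card (K.map D.subtype)).Coprime p := by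
    rw [Subgroup.card_subtype]
    exact hKcop
  have hK'bot : K.map D.subtype = ⊥ := by
    have := le_pPrimeCore p (K.map D.subtype) hK'card
    rw [hO] at this
    exact le_bot_iff.mp this
  have hKbot : K = ⊥ := (Subgroup.map_eq_bot_iff_of_injective _ D.subtype_injective).1 hK'bot
  rw [hKbot, bot_sup_eq, hScoe] at hKsup
  intro d hd
  have : (⟨d, hd⟩ : D) ∈ Z.subgroupOf D := by rw [hKsup]; trivial
  exact this

end Cfsg.Agent.Lib.Helper11.AutMove
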