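import Cfsg.Agent.Lib.Helper11.AutMove.Star

/-!
# The `p`-solvable lemma for S4411: the induction
-/

set_option autoImplicit false
set_option linter.unusedSectionVars false
set_option linter.style.haveILetI false

namespace Cfsg.Agent.Lib.Helper11.AutMove

open Cfsg Subgroup
open Cfsg.Agent.Lib.Helper76 (isPSolvable_quotient isPSolvable_subgroup
  centralizer_pCore_le_of_isPSolvable relIndex_dvd_of_le_right_of_normal)
open Cfsg.Agent.Lib.Helper55 (card_comap_mk' card_mul_relIndex_eq pCore_normal' pPrimeCore_normal'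
  le_pPrimeCore pPrimeCore_card_coprime pCore_isPGroup)
open Cfsg.Agent.Lib.Helper10 (omegaOne_le omegaZ_le_centralizer)

universe u

theorem star_aux (p q : ℕ) [hp : Fact p.Prime] [hq : Fact q.Prime] (hpq : p ≠ q)
    (h23 : ¬ ((p = 2 ∧ q = 3) ∨ (p = 3 ∧ q = 2))) :
    ∀ n : ℕ, ∀ (X : Type u) [Group X] [Finite X], Nat.card X = n → IsPSolvable p X →
      pPrimeCore p X = ⊥ → q ∣ Nat.card X → ∀ T : Sylow p X,
      ∃ K : Subgroup X, CharIn K (T : Subgroup X) ∧ Mv q K := by
  intro n
  induction n using Nat.strong_induction_on with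
  | _ n ih =>
  intro X _ _ hn hsol hO hqX T
  -- passing to a proper subgroup containing `T`
  have hsub : ∀ M : Subgroup X, (T : Subgroup X) ≤ M → M ≠ ⊤ → q ∣ Nat.card M →
      ∃ K : Subgroup X, CharIn K (T : Subgroup X) ∧ Mv q K := by
    intro M hTM hM hqM
    have hlt : Nat.card M < n := by
      rw [← hn]
      have h1 := Subgroup.card_mul_index M
      have h2 : M.index ≠ 1 := fun h => hM (Subgroup.index_eq_one.1 h)
      have h3 : M.index ≠ 0 := Subgroup.index_ne_zero_of_finite
      have h4 : 0 < Nat.card M := Nat.card_pos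
      nlinarith [Nat.lt_of_le_of_ne (Nat.one_le_iff_ne_zero.2 h3) (Ne.symm h2)]
    have hOM : pPrimeCore p ↥M = ⊥ := pPrimeCore_subgroup_eq_bot hsol hO T hTM
    obtain ⟨K', hK', y, hyN, hyC, hyq⟩ :=
      ih _ hlt ↥M rfl (isPSolvable_subgroup M hsol) hOM hqM (T.subtype hTM)
    refine ⟨K'.map M.subtype, ?_, (y : X), ?_, ?_, isQ_coe_iff.2 hyq⟩
    · have := hK'.map M.subtype_injective (G := X)
      rw [Sylow.coe_subtype, Subgroup.map_subgroupOf_eq_of_le hTM] at this
      exact this
    · exact Subgroup.le_normalizer_map M.subtype ⟨y, hyN, rfl⟩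
    · intro hc
      apply hyC
      rw [mem_centralizer_iff]
      intro k hk
      apply Subtype.ext
      exact (mem_centralizer_iff.1 hc) (k : X) ⟨k, hk, rfl⟩
  -- `T ≠ 1`
  have hpX : p ∣ Nat.card X := by
    by_contra hnd
    have hcop : (Nat.card (⊤ : Subgroup X)).Coprime p := by
      rw [Subgroup.card_top, Nat.coprime_comm, Nat.Prime.coprime_iff_not_dvd hp.out]
      exact hnd
    have h1 := le_pPrimeCore p (⊤ : Subgroup X) hcop
    rw [hO] at h1
    have h2 : Nat.card X = 1 := by
      have h3 : (⊤ : Subgroup X) = ⊥ := le_bot_iff.1 h1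
      rw [← Subgroup.card_top, h3, Subgroup.card_bot]
    rw [h2] at hqX
    exact hq.out.one_lt.ne' (Nat.dvd_one.1 hqX)
  have hT1 : (T : Subgroup X) ≠ ⊥ := T.ne_bot_of_dvd_card hpX
  -- reduction to `{p,q}`-groups
  obtain ⟨H, hTH, hHpq, hHq⟩ := exists_hall_pq_ge p q hsol T
  have hqH : q ∣ Nat.card H := by
    have h1 := Subgroup.card_mul_index H
    rw [← h1] at hqX
    exact Nat.Coprime.dvd_of_dvd_mul_right
      ((Nat.Prime.coprime_iff_not_dvd hq.out).2
        ((Nat.Prime.coprime_iff_not_dvd hq.out).1 hHq.symm)) hqX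
  by_cases hH : H = ⊤
  swap
  · exact hsub H hTH hH hqH
  have hXpq : PQ p q (Nat.card X) := by
    rw [← Subgroup.card_top, ← hH]; exact hHpq
  -- passing to the quotient by a characteristic subgroup centralized by all `q`-elements
  have hquot : ∀ Z : Subgroup X, Z.Normal → Z ≠ ⊥ → Z ≤ (T : Subgroup X) →
      CharIn Z (T : Subgroup X) → (∀ y : X, IsQ q y → y ∈ centralizer (Z : Set X)) →
      ∃ K : Subgroup X, CharIn K (T : Subgroup X) ∧ Mv q K := by
    intro Z hZn hZ1 hZT hZchar hZcent
    haveI := hZn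
    have hcard : Nat.card Z * Nat.card (X ⧸ Z) = Nat.card X := by
      rw [← Subgroup.index_eq_card]; exact Subgroup.card_mul_index Z
    have hZp : IsPGroup p Z := T.2.to_le hZT
    have hlt : Nat.card (X ⧸ Z) < n := by
      rw [← hn, ← hcard]
      have h1 : 1 < Nat.card Z := by
        rw [Subgroup.one_lt_card_iff_ne_bot]; exact hZ1
      have h3 : 0 < Nat.card (X ⧸ Z) := Nat.card_pos
      nlinarith
    have hsolQ := isPSolvable_quotient Z hsol
    have hqQ : q ∣ Nat.card (X ⧸ Z) := by
      rw [← hcard] at hqX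
      obtain ⟨k, hk⟩ := IsPGroup.iff_card.1 hZp
      rw [hk, mul_comm] at hqX
      apply Nat.Coprime.dvd_of_dvd_mul_right _ hqX
      apply Nat.Coprime.pow_right
      exact (Nat.coprime_primes hq.out hp.out).2 (Ne.symm hpq)
    have hOQ : pPrimeCore p (X ⧸ Z) = ⊥ := by
      by_contra hne
      haveI hYn : (pPrimeCore p (X ⧸ Z)).Normal := pPrimeCore_normal' p
      have hYc : (Nat.card (pPrimeCore p (X ⧸ Z))).Coprime p := pPrimeCore_card_coprime p
      have hY1 : Nat.card (pPrimeCore p (X ⧸ Z)) ≠ 1 := by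
        intro h; exact hne (Subgroup.card_eq_one.1 h)
      obtain ⟨r, hr, hrd⟩ := Nat.exists_prime_and_dvd hY1
      have hrp : r ≠ p := by
        rintro rfl
        exact (Nat.Prime.coprime_iff_not_dvd hr).1 hYc.symm hrd
      have hrq : r = q := by
        have h1 : r ∣ Nat.card X := by
          rw [← hcard]
          exact (hrd.trans (Subgroup.card_subgroup_dvd_card _)).trans (dvd_mul_left _ _)
        rcases hXpq r hr h1 with h | h
        · exact absurd h hrp
        · exact h
      subst hrq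
      obtain ⟨ybar, hybar⟩ := exists_prime_orderOf_dvd_card' r hrd
      obtain ⟨y₀, hy₀⟩ := QuotientGroup.mk'_surjective Z (ybar : X ⧸ Z)
      obtain ⟨m, hm, hmq⟩ := exists_qpart r y₀
      have hπy : QuotientGroup.mk' Z (y₀ ^ m) = ((ybar ^ m : ↥(pPrimeCore p (X ⧸ Z))) : X ⧸ Z) := by
        rw [map_pow, hy₀, Subgroup.coe_pow]
      have hne1 : QuotientGroup.mk' Z (y₀ ^ m) ≠ 1 := by
        rw [hπy]
        intro h
        have h1 : ybar ^ m = 1 := Subtype.ext h
        have h2 := orderOf_dvd_of_pow_eq_one h1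
        rw [hybar] at h2
        exact hm h2
      have hyY : y₀ ^ m ∈ (pPrimeCore p (X ⧸ Z)).comap (QuotientGroup.mk' Z) := by
        rw [mem_comap, hπy]
        exact (ybar ^ m).2
      have hyC : y₀ ^ m ∈ centralizer (Z : Set X) := hZcent _ hmq
      haveI hYn' : ((pPrimeCore p (X ⧸ Z)).comap (QuotientGroup.mk' Z)).Normal :=
        hYn.comap _
      haveI hCn : (centralizer (Z : Set X)).Normal := Subgroup.normal_centralizer
      have hZY : Z ≤ (pPrimeCore p (X ⧸ Z)).comap (QuotientGroup.mk' Z) :=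
        Cfsg.Agent.Lib.Helper55.le_comap_mk' Z _
      have hD : (pPrimeCore p (X ⧸ Z)).comap (QuotientGroup.mk' Z) ⊓ centralizer (Z : Set X) ≤
          Z ⊓ centralizer (Z : Set X) := by
        apply le_of_central_sylow hO
        · exact inf_le_inf_right _ hZY
        · exact hZp.to_le inf_le_left
        · have e1 : Z ⊓ centralizer (Z : Set X) = Z ⊓
              ((pPrimeCore p (X ⧸ Z)).comap (QuotientGroup.mk' Z) ⊓ centralizer (Z : Set X)) := by
            rw [← inf_assoc, inf_eq_left.2 hZY]
          rw [e1, Subgroup.inf_relIndex_right]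
          have h1 : Z.relIndex ((pPrimeCore p (X ⧸ Z)).comap (QuotientGroup.mk' Z) ⊓
              centralizer (Z : Set X)) ∣ Z.relIndex ((pPrimeCore p (X ⧸ Z)).comap
                (QuotientGroup.mk' Z)) :=
            relIndex_dvd_of_le_right_of_normal inf_le_left
          have h2 : Z.relIndex ((pPrimeCore p (X ⧸ Z)).comap (QuotientGroup.mk' Z)) =
              Nat.card (pPrimeCore p (X ⧸ Z)) := by
            have a1 := card_mul_relIndex_eq hZY
            have a2 := card_comap_mk' Z (pPrimeCore p (X ⧸ Z))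
            have hpos : 0 < Nat.card Z := Nat.card_pos
            apply Nat.eq_of_mul_eq_mul_left hpos
            rw [a1, a2]
          rw [h2] at h1
          exact Nat.Coprime.coprime_dvd_left h1 hYc
        · intro z hz d hd
          exact ((mem_centralizer_iff.1 hd.2) z hz.1).symm
      have h3 := (hD ⟨hyY, hyC⟩).1
      apply hne1
      rw [QuotientGroup.mk'_apply, QuotientGroup.eq_one_iff]
      exact h3
    have hTi : ¬ p ∣ ((T : Subgroup X).map (QuotientGroup.mk' Z)).index := by
      intro hd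
      exact T.not_dvd_index
        (hd.trans (Subgroup.index_map_dvd _ (QuotientGroup.mk'_surjective Z)))
    obtain ⟨Kbar, hKbar, ybar, hyN, hyC, hyq⟩ := ih _ hlt (X ⧸ Z) rfl hsolQ hOQ hqQ
      ((T.2.map (QuotientGroup.mk' Z)).toSylow hTi)
    rw [IsPGroup.toSylow_coe] at hKbar
    have hker : (T : Subgroup X) ⊓ (QuotientGroup.mk' Z).ker = Z := by
      rw [QuotientGroup.ker_mk']; exact inf_eq_right.2 hZT
    have hK := CharIn.comap (QuotientGroup.mk' Z) (T := (T : Subgroup X))
      (by rw [hker]; exact hZchar) hKbar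
    have hcomap : Kbar.comap (QuotientGroup.mk' Z) ≤ (T : Subgroup X) := by
      intro k hk
      obtain ⟨t, ht, htk⟩ := hKbar.1 hk
      have h1 : t⁻¹ * k ∈ Z := by
        rw [← QuotientGroup.eq]
        exact htk
      have h2 : k = t * (t⁻¹ * k) := by group
      rw [h2]
      exact mul_mem ht (hZT h1)
    rw [inf_eq_left.2 hcomap] at hK
    obtain ⟨y₀, hy₀⟩ := QuotientGroup.mk'_surjective Z ybar
    obtain ⟨m, hm, hmq⟩ := exists_qpart q y₀
    have hπy : QuotientGroup.mk' Z (y₀ ^ m) = ybar ^ m := by rw [map_pow, hy₀]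
    refine ⟨Kbar.comap (QuotientGroup.mk' Z), hK, y₀ ^ m, ?_, ?_, hmq⟩
    · apply Subgroup.le_normalizer_comap (QuotientGroup.mk' Z)
      rw [mem_comap, hπy]
      exact pow_mem hyN m
    · intro hc
      have h1 : ybar ^ m ∈ centralizer (Kbar : Set (X ⧸ Z)) := by
        rw [mem_centralizer_iff]
        intro kbar hkbar
        obtain ⟨k, rfl⟩ := QuotientGroup.mk'_surjective Z kbar
        have h2 := (mem_centralizer_iff.1 hc) k hkbar
        rw [← hπy, ← map_mul, ← map_mul, h2]
      exact pow_not_mem_of_isQ hyq hyC hm h1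
  -- Thompson factorization
  have hfac : IsThompsonFactorizable p X := by
    by_contra hnf
    obtain ⟨hp23, E, -, -, -, hn', ⟨e⟩⟩ := Cfsg.Agent.S0618.result hsol hO hnf
    have h1 : Nat.card (Matrix.SpecialLinearGroup (Fin 2) (ZMod p)) ∣ Nat.card X := by
      rw [← Nat.card_congr e.toEquiv]
      exact (Subgroup.card_quotient_dvd_card _).trans (Subgroup.card_subgroup_dvd_card E)
    rcases hp23 with rfl | rfl
    · rcases hXpq 3 Nat.prime_three (three_dvd_card_SL2_two.trans h1) with h | h
      · omega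
      · exact h23 (Or.inl ⟨rfl, h.symm⟩)
    · rcases hXpq 2 Nat.prime_two (two_dvd_card_SL2_three.trans h1) with h | h
      · omega
      · exact h23 (Or.inr ⟨rfl, h.symm⟩)
  have hfacT : ∀ g : X, ∃ c ∈ centralizer (omegaOne p ((T : Subgroup X) ⊓
      centralizer ((T : Subgroup X) : Set X)) : Set X),
      ∃ n ∈ normalizer (thompsonSubgroupOf p (T : Subgroup X) : Set X), g = c * n := by
    intro g
    obtain ⟨x, hx, c, hc, n, hn', rfl⟩ := hfac T g
    rw [hO, mem_bot] at hx
    exact ⟨c, hc, n, hn', by rw [hx, one_mul]⟩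
  have hTC : (T : Subgroup X) ≤ centralizer (omegaOne p ((T : Subgroup X) ⊓
      centralizer ((T : Subgroup X) : Set X)) : Set X) := by
    rw [Subgroup.le_centralizer_iff]
    exact omegaZ_le_centralizer (T : Subgroup X)
  have hZchar := charIn_omegaZ p (T : Subgroup X)
  have hJchar := charIn_thompson p (T : Subgroup X)
  have hTN : (T : Subgroup X) ≤ normalizer (thompsonSubgroupOf p (T : Subgroup X) : Set X) :=
    le_normalizer.trans hJchar.normalizer_le
  by_cases hC : centralizer (omegaOne p ((T : Subgroup X) ⊓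
      centralizer ((T : Subgroup X) : Set X)) : Set X) = ⊤
  · -- `Ω₁(Z(T))` is central
    have hZn : (omegaOne p ((T : Subgroup X) ⊓ centralizer ((T : Subgroup X) : Set X))).Normal := by
      constructor
      intro z hz g
      have h1 : g ∈ centralizer (omegaOne p ((T : Subgroup X) ⊓
        centralizer ((T : Subgroup X) : Set X)) : Set X) := by rw [hC]; trivial
      have h2 := (mem_centralizer_iff.1 h1) z hz
      rw [← h2, mul_inv_cancel_right]
      exact hz
    apply hquot _ hZn (omegaZ_ne_bot T.2 hT1) hZchar.1 hZchar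
    intro y _
    rw [hC]; trivial
  by_cases hqC : q ∣ Nat.card (centralizer (omegaOne p ((T : Subgroup X) ⊓
      centralizer ((T : Subgroup X) : Set X)) : Set X))
  · exact hsub _ hTC hC hqC
  -- the centralizer of `Ω₁(Z(T))` is `T`
  have hCp : IsPGroup p (centralizer (omegaOne p ((T : Subgroup X) ⊓
      centralizer ((T : Subgroup X) : Set X)) : Set X)) := by
    have h0 : Nat.card (centralizer (omegaOne p ((T : Subgroup X) ⊓
      centralizer ((T : Subgroup X) : Set X)) : Set X)) ≠ 0 := Nat.card_pos.ne'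
    apply IsPGroup.of_card (Nat.eq_prime_pow_of_unique_prime_dvd h0 _)
    intro d hd hdd
    rcases hXpq d hd (hdd.trans (Subgroup.card_subgroup_dvd_card _)) with h | h
    · exact h
    · rw [h] at hdd; exact absurd hdd hqC
  have hCT : centralizer (omegaOne p ((T : Subgroup X) ⊓
      centralizer ((T : Subgroup X) : Set X)) : Set X) = T := T.is_maximal' hCp hTC
  have hNtop : normalizer (thompsonSubgroupOf p (T : Subgroup X) : Set X) = ⊤ := by
    rw [eq_top_iff]
    intro g _
    obtain ⟨c, hc, n', hn', rfl⟩ := hfacT g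
    rw [hCT] at hc
    exact mul_mem (hTN hc) hn'
  have hJn : (thompsonSubgroupOf p (T : Subgroup X)).Normal := normalizer_eq_top_iff.1 hNtop
  by_cases hmv : ∃ y : X, IsQ q y ∧ y ∉ centralizer (thompsonSubgroupOf p (T : Subgroup X) : Set X)
  · obtain ⟨y, hyq, hyC⟩ := hmv
    exact ⟨_, hJchar, y, by rw [hNtop]; trivial, hyC, hyq⟩
  · push Not at hmv
    exact hquot _ hJn (thompson_ne_bot T.2 hT1) hJchar.1 hJchar hmv

end Cfsg.Agent.Lib.Helper11.AutMove
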