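import Cfsg.Agent.Lib.Helper11.AutMove.StarMain
import Cfsg.Agent.Lib.Helper30.PPrimeCore

/-!
# The `p`-solvable lemma for S4411, without the assumption `O_{p'}(X) = 1`
-/

set_option autoImplicit false
set_option linter.unusedSectionVars false
set_option linter.style.haveILetI false

namespace Cfsg.Agent.Lib.Helper11.AutMove

open Cfsg Subgroup
open Cfsg.Agent.Lib.Helper76 (isPSolvable_quotient)
open Cfsg.Agent.Lib.Helper55 (card_sup_dvd_mul card_mul_relIndex_eq pPrimeCore_normal'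
  pPrimeCore_card_coprime)
open Cfsg.Agent.Lib.Helper33 (cj mem_cj' cj_mul card_cj cj_eq_self_iff cj_eq_self_of_mem
  isPGroup_cj sylow_sub_eq)

universe u

variable {X : Type*} [Group X]

theorem charIn_bot (T : Subgroup X) : CharIn ⊥ T := by
  refine ⟨bot_le, ?_⟩
  intro f _ _ t ht
  rw [mem_bot] at ht ⊢
  have : t = 1 := Subtype.ext ht
  rw [this, map_one]

/-- Frattini-type lifting of normalizing elements through a normal `p'`-subgroup -/
theorem exists_mem_normalizer_of_map [Finite X] {p : ℕ} [hp : Fact p.Prime] (D : Subgroup X)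
    [hDn : D.Normal] (hD : (Nat.card D).Coprime p) {K : Subgroup X} (hK : IsPGroup p K)
    {b : X ⧸ D}
    (hb : b ∈ normalizer ((K.map (QuotientGroup.mk' D) : Subgroup (X ⧸ D)) : Set (X ⧸ D))) :
    ∃ a ∈ normalizer (K : Set X), QuotientGroup.mk' D a = b := by
  obtain ⟨w, rfl⟩ := QuotientGroup.mk'_surjective D b
  have hwK : cj w K ≤ K ⊔ D := by
    intro x hx
    obtain ⟨k, hk, rfl⟩ := mem_cj'.1 hx
    have h1 : QuotientGroup.mk' D (w * k * w⁻¹) ∈ K.map (QuotientGroup.mk' D) := by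
      have := (mem_normalizer_iff.1 hb (QuotientGroup.mk' D k)).1 (Subgroup.mem_map_of_mem _ hk)
      simpa using this
    obtain ⟨k', hk', hkk⟩ := h1
    have h2 : k'⁻¹ * (w * k * w⁻¹) ∈ D := by
      rw [← QuotientGroup.eq]
      exact hkk
    have h3 : w * k * w⁻¹ = k' * (k'⁻¹ * (w * k * w⁻¹)) := by group
    rw [h3]
    exact mul_mem (le_sup_left (a := K) (b := D) hk') (le_sup_right (a := K) (b := D) h2)
  have hidx : ∀ K' : Subgroup X, K' ≤ K ⊔ D → Nat.card K' = Nat.card K → ¬ p ∣ K'.relIndex (K ⊔ D) := by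
    intro K' hK' hc hd
    have h1 := card_mul_relIndex_eq hK'
    have h2 := card_sup_dvd_mul K D
    rw [← h1, hc] at h2
    have h3 : K'.relIndex (K ⊔ D) ∣ Nat.card D :=
      Nat.dvd_of_mul_dvd_mul_left Nat.card_pos h2
    exact (Nat.Prime.coprime_iff_not_dvd hp.out).1 hD.symm (hd.trans h3)
  obtain ⟨v, hv, hvK⟩ := sylow_sub_eq hwK (isPGroup_cj hK) (hidx _ hwK (card_cj w K))
    le_sup_left hK (hidx K le_sup_left rfl)
  obtain ⟨k, hk, d, hd, rfl⟩ := Subgroup.mem_sup_of_normal_right.1 hv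
  refine ⟨d * w, ?_, ?_⟩
  · rw [← cj_eq_self_iff]
    rw [← cj_mul, mul_assoc, cj_mul] at hvK
    have h1 : cj k⁻¹ (cj k (cj (d * w) K)) = cj k⁻¹ K := by rw [hvK]
    rw [← cj_mul, inv_mul_cancel, cj_eq_self_of_mem (inv_mem hk)] at h1
    have h2 : cj (1 : X) (cj (d * w) K) = cj (d * w) K := by
      ext x
      simp [Cfsg.Agent.Lib.Helper33.mem_cj]
    rw [h2] at h1
    exact h1
  · rw [map_mul]
    have : QuotientGroup.mk' D d = 1 := by
      rw [QuotientGroup.mk'_apply, QuotientGroup.eq_one_iff]; exact hd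
    rw [this, one_mul]

theorem star_star {X : Type u} [Group X] [Finite X] (p q : ℕ) [hp : Fact p.Prime]
    [hq : Fact q.Prime] (hpq : p ≠ q) (h23 : ¬ ((p = 2 ∧ q = 3) ∨ (p = 3 ∧ q = 2)))
    (hsol : IsPSolvable p X) (T : Sylow p X) {y : X} (hyq : IsQ q y) (hy : y ∉ pPrimeCore p X) :
    ∃ K : Subgroup X, CharIn K (T : Subgroup X) ∧ Mv q K := by
  haveI hDn : (pPrimeCore p X).Normal := pPrimeCore_normal' p
  have hDc : (Nat.card (pPrimeCore p X)).Coprime p := pPrimeCore_card_coprime p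
  have hsolQ := isPSolvable_quotient (pPrimeCore p X) hsol
  have hOQ : pPrimeCore p (X ⧸ pPrimeCore p X) = ⊥ :=
    Cfsg.Agent.Lib.Helper30.pPrimeCore_quotient_eq_bot p
  have hqQ : q ∣ Nat.card (X ⧸ pPrimeCore p X) := by
    apply dvd_card_of_isQ (hyq.map (QuotientGroup.mk' (pPrimeCore p X)))
    rw [QuotientGroup.mk'_apply, Ne, QuotientGroup.eq_one_iff]
    exact hy
  have hTi : ¬ p ∣ ((T : Subgroup X).map (QuotientGroup.mk' (pPrimeCore p X))).index := by
    intro hd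
    exact T.not_dvd_index
      (hd.trans (Subgroup.index_map_dvd _ (QuotientGroup.mk'_surjective _)))
  obtain ⟨Kbar, hKbar, ybar, hyN, hyC, hyq'⟩ := star_aux p q hpq h23 _ (X ⧸ pPrimeCore p X) rfl
    hsolQ hOQ hqQ ((T.2.map (QuotientGroup.mk' (pPrimeCore p X))).toSylow hTi)
  rw [IsPGroup.toSylow_coe] at hKbar
  have hker : (T : Subgroup X) ⊓ (QuotientGroup.mk' (pPrimeCore p X)).ker = ⊥ := by
    rw [QuotientGroup.ker_mk']
    exact inf_eq_bot_of_isPGroup_of_coprime T.2 hDc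
  have hK := CharIn.comap (QuotientGroup.mk' (pPrimeCore p X)) (T := (T : Subgroup X))
    (by rw [hker]; exact charIn_bot _) hKbar
  have hmap : (Kbar.comap (QuotientGroup.mk' (pPrimeCore p X)) ⊓ (T : Subgroup X)).map
      (QuotientGroup.mk' (pPrimeCore p X)) = Kbar := by
    apply le_antisymm
    · rintro _ ⟨k, hk, rfl⟩
      exact hk.1
    · intro kbar hkbar
      obtain ⟨t, ht, rfl⟩ := hKbar.1 hkbar
      exact ⟨t, ⟨hkbar, ht⟩, rfl⟩
  have hKp : IsPGroup p (Kbar.comap (QuotientGroup.mk' (pPrimeCore p X)) ⊓ (T : Subgroup X) :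
      Subgroup X) := T.2.to_le inf_le_right
  rw [← hmap] at hyN
  obtain ⟨a, haN, haπ⟩ := exists_mem_normalizer_of_map (pPrimeCore p X) hDc hKp hyN
  obtain ⟨m, hm, hmq⟩ := exists_qpart q a
  refine ⟨_, hK, a ^ m, pow_mem haN m, ?_, hmq⟩
  intro hc
  have h1 : ybar ^ m ∈ centralizer (Kbar : Set (X ⧸ pPrimeCore p X)) := by
    rw [mem_centralizer_iff]
    intro kbar hkbar
    rw [← hmap] at hkbar
    obtain ⟨k, hk, rfl⟩ := hkbar
    have h2 := (mem_centralizer_iff.1 hc) k hk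
    rw [← haπ, ← map_pow, ← map_mul, ← map_mul, h2]
  exact pow_not_mem_of_isQ hyq' hyC hm h1

end Cfsg.Agent.Lib.Helper11.AutMove
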